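import Cfsg.Agent.Lib.SQ.Defs
import Cfsg.Agent.Lib.H1Stable

set_option autoImplicit false

namespace CfsgLib.SQ

open Subgroup Cfsg CfsgLib.FT.BGN CfsgLib.GW
open CfsgLib.FT.U4 (mem_cent1 mem_cent1' mem_cent mem_cent1_comm self_mem_cent1 cent1_conj
  orderOf_conj cent_le_cent1)

universe u

variable {G : Type*} [Group G] [Finite G] {S : Subgroup G}

omit [Finite G] in
theorem Br.conj {x : G} (h : Br S x) (g : G) : Br (g •ᶜ S) (g * x * g⁻¹) := by
  sorry

omit [Finite G] in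
theorem Br.conj_norm {x g : G} (h : Br S x) (hg : g ∈ 𝐍(S)) : Br S (g * x * g⁻¹) := by
  sorry

/-- Every element of `S` is conjugate to an element with at most two conjugates in `S`. -/
theorem Hyp.br (h : Hyp G) (hS : Sy S) {x : G} (hx : x ∈ S) : ∃ g, Br S (g * x * g⁻¹) := by
  sorry

/-- Burnside's fusion lemma. -/
theorem burn (hS : Sy S) {x g : G} (hx : x ∈ S) (hc : x ∈ 𝐂(S)) (hy : g * x * g⁻¹ ∈ S)
    (hc' : g * x * g⁻¹ ∈ 𝐂(S)) : ∃ m ∈ 𝐍(S), m * x * m⁻¹ = g * x * g⁻¹ := by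
  sorry

/-- Every central involution of a nonabelian Sylow subgroup has a noncentral conjugate. -/
theorem Min.l1 (h : Min G) (hS : Sy S) (hna : ¬ S ≤ 𝐂(S)) {w : G} (hw : w ∈ S) (hc : w ∈ 𝐂(S))
    (h1 : w ≠ 1) (h2 : w * w = 1) : ∃ g, g * w * g⁻¹ ∈ S ∧ g * w * g⁻¹ ∉ 𝐂(S) := by
  sorry

/-- A form of Thompson's transfer lemma for central involutions. -/
theorem tz (hP : commutator G = ⊤) (hS : Sy S) {M : Subgroup G} (hM : M ≤ S)
    (hi : M.relIndex S = 2) {v : G} (hc : v ∈ 𝐂(S)) (h2 : v * v = 1) :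
    ∃ g, g * v * g⁻¹ ∈ M ∧ g * v * g⁻¹ ∈ 𝐂(M) := by
  sorry

theorem Min.ctx (h : Min G) (hab : ¬ H1.AbTwo G) : ∃ n, Ctx G n := by
  sorry

/-- The reduction to a minimal counterexample. -/
theorem solvable_of (hmin : ∀ (X : Type u) [Group X] [Finite X], Min X → False)
    (X : Type u) [Group X] [Finite X] (h : Hyp X) : Group.IsSolvable X := by
  sorry

end CfsgLib.SQ
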