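import Cfsg.Agent.Lib.GW.Basic
import Cfsg.Agent.Lib.H5Involutions

/-!
# Prime power elements with class sizes not divisible by four: definitions
-/

set_option autoImplicit false

namespace CfsgLib.SQ

open Subgroup Cfsg CfsgLib.FT.BGN CfsgLib.GW

variable {G : Type*} [Group G]

/-- Elements of prime power order. -/
def PP (x : G) : Prop := ∃ r k : ℕ, r.Prime ∧ orderOf x = r ^ k

/-- The hypothesis. -/
def Hyp (G : Type*) [Group G] : Prop := ∀ x : G, PP x → ¬ 4 ∣ (𝐂[x]).index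

/-- Sylow `2`-subgroups of `G`. -/
abbrev Sy (S : Subgroup G) : Prop := IsSylowIn 2 S ⊤

/-- `x ∈ S` has at most two conjugates in `S`. -/
def Br (S : Subgroup G) (x : G) : Prop :=
  x ∈ S ∧ ∀ y ∈ S, ∀ y' ∈ S, y ∉ 𝐂[x] → y' ∉ 𝐂[x] → y * y' ∈ 𝐂[x]

/-- A minimal counterexample. -/
structure Min (G : Type*) [Group G] : Prop where
  simple : IsSimpleGroup G
  nonab : ¬ IsMulCommutative G
  hyp : Hyp G
  inh : ∀ Y : Subgroup G, IsPGroup 2 Y → Y ≠ ⊥ →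
    (∀ S, Sy S → Y ≤ S → IsSylowIn 2 (S ⊓ 𝐂(Y)) 𝐂(Y)) → Nilp2 𝐂(Y)

/-- A minimal counterexample with nonabelian Sylow `2`-subgroups of exponent `4 n`. -/
structure Ctx (G : Type*) [Group G] (n : ℕ) : Prop extends Min G where
  pw : ∃ m, n = 2 ^ m
  ex : ∀ S : Subgroup G, Sy S → ∀ x ∈ S, x ^ (4 * n) = 1
  rt : ∀ S : Subgroup G, Sy S → ∃ a, Br S a ∧ a ^ (2 * n) ≠ 1
  na : ∀ S : Subgroup G, Sy S → ¬ S ≤ 𝐂(S)

/-- `C_S(a, b)`. -/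
def D0 (S : Subgroup G) (a b : G) : Subgroup G := S ⊓ 𝐂[a] ⊓ 𝐂[b]

/-- The Frattini subgroup of `D0 S a b`. -/
def F0 (S : Subgroup G) (a b : G) : Subgroup G := closure {x | ∃ d ∈ D0 S a b, x = d * d}

/-- The structure of `S` seen from an element `a` of maximal order `4 n` with two conjugates. -/
structure ST (S : Subgroup G) (n : ℕ) (a b : G) : Prop where
  sy : Sy S
  pw : ∃ m, n = 2 ^ m
  ex : ∀ x ∈ S, x ^ (4 * n) = 1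
  br : Br S a
  bS : b ∈ S
  bb : b * b = 1
  bT : b ∉ 𝐂[a]
  dec : ∀ x ∈ S, x ∈ 𝐂[a] → ∃ j : ℕ, ∃ d ∈ D0 S a b, x = a ^ j * d
  hw : a ^ (2 * n) ∉ F0 S a b
  hc : (a ^ n)⁻¹ * (b * a ^ n * b) ∉ F0 S a b

/-- An involution `β` with a maximal centralizer `D = C_S(β) < S`. -/
structure KD (S : Subgroup G) (β : G) : Prop where
  sy : Sy S
  mem : β ∈ S
  bb : β * β = 1
  nc : β ∉ 𝐂(S)
  syl : IsSylowIn 2 (S ⊓ 𝐍(S ⊓ 𝐂[β])) 𝐍(S ⊓ 𝐂[β])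
  reg : ∀ l ∈ 𝐍(S ⊓ 𝐂[β]), l * β * l⁻¹ ∈ 𝐂(S) ∨ S ⊓ 𝐂[l * β * l⁻¹] ≤ 𝐂[β]
  ex : ∃ l ∈ 𝐍(S ⊓ 𝐂[β]), l * β * l⁻¹ ∈ 𝐂(S)

/-- Semidihedral Sylow `2`-subgroup of order `8 n`. -/
structure SD (S : Subgroup G) (n : ℕ) (a b : G) : Prop where
  sy : Sy S
  pw : ∃ m, n = 2 ^ (m + 1)
  aS : a ∈ S
  bS : b ∈ S
  ord : orderOf a = 4 * n
  bb : b * b = 1
  bT : b ∉ zpowers a
  rel : b * a * b = a⁻¹ * a ^ (2 * n)
  form : ∀ x ∈ S, x ∈ zpowers a ∨ x * b ∈ zpowers a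

end CfsgLib.SQ
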