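import Cfsg.Agent.Lib.SQ.Basic

set_option autoImplicit false

namespace CfsgLib.SQ

open Subgroup Cfsg CfsgLib.FT.BGN CfsgLib.GW
open CfsgLib.FT.U4 (mem_cent1 mem_cent1' mem_cent mem_cent1_comm self_mem_cent1 cent1_conj
  orderOf_conj cent_le_cent1)

universe u

variable {G : Type*} [Group G] [Finite G] {S : Subgroup G} {β : G} {n : ℕ}

omit [Finite G] in
theorem k0 {t u : G} (m : ℕ) (h1 : Commute u (t * u * t⁻¹)) (h2 : Commute (t * t) u) :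
    (t * u) ^ (2 * m) = t * u ^ m * t⁻¹ * t ^ (2 * m) * u ^ m := by
  sorry

theorem sel (Bad : Subgroup G → G → Prop)
    (h1 : ∀ S β, Bad S β → Sy S ∧ β ∈ S ∧ β * β = 1 ∧ β ∉ 𝐂(S) ∧ ∃ S₁, Sy S₁ ∧ S₁ ≤ 𝐂[β])
    (h2 : ∀ S β S', Bad S β → Sy S' → S ⊓ 𝐍(S ⊓ 𝐂[β]) ≤ S' →
      Bad S' β ∨ ∃ β', Bad S' β' ∧ S ⊓ 𝐍(S ⊓ 𝐂[β]) ≤ 𝐂[β'])
    (h3 : ∀ S β g, Bad S β → g * β * g⁻¹ ∈ S → S ⊓ 𝐂[β] ≤ 𝐂[g * β * g⁻¹] →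
      g * β * g⁻¹ ∈ 𝐂(S) ∨ Bad S (g * β * g⁻¹))
    (hb : Bad S β) : ∃ S β, Bad S β ∧ KD S β := by
  sorry

theorem KD.exists_t (h : KD S β) :
    ∃ t ∈ S, t ∈ 𝐍(S ⊓ 𝐂[β]) ∧ t ∉ 𝐂[β] ∧ t * t ∈ 𝐂[β] := by
  sorry

theorem KD.kill (h : KD S β) (pw : ∃ m, n = 2 ^ m) (ex : ∀ x ∈ S, x ^ (4 * n) = 1)
    (hr : ∀ l ∈ 𝐍(S ⊓ 𝐂[β]), l * β * l⁻¹ ∈ 𝐂(S) →
      ∃ a, Br S a ∧ a ∈ 𝐂[β] ∧ a ^ (2 * n) = l * β * l⁻¹) : False := by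
  sorry

omit [Finite G] in
theorem Br.pow_cent {a : G} (h : Br S a) (ex : ∀ x ∈ S, x ^ (4 * n) = 1) :
    a ^ (2 * n) ∈ 𝐂(S) := by
  sorry

theorem Ctx.st (h : Ctx G n) (hS : Sy S) {a : G} (ha : Br S a) (h1 : a ^ (2 * n) ≠ 1) :
    ∃ b, ST S n a b := by
  sorry

end CfsgLib.SQ
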