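import Cfsg.Agent.Lib.SQ.Loc

set_option autoImplicit false

namespace CfsgLib.SQ

open Subgroup Cfsg CfsgLib.FT.BGN CfsgLib.GW
open CfsgLib.FT.U4 (mem_cent1 mem_cent1' mem_cent mem_cent1_comm self_mem_cent1 cent1_conj
  orderOf_conj cent_le_cent1)

universe u

variable {G : Type*} [Group G] [Finite G] {S : Subgroup G} {n : ℕ} {a b : G}

theorem ST.w_cent (h : ST S n a b) : a ^ (2 * n) ∈ 𝐂(S) := by
  sorry

theorem ST.zeta_cent (h : ST S n a b) : b * a * b * a ∈ 𝐂(S) := by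
  sorry

theorem ST.c0_cent (h : ST S n a b) : (a ^ n)⁻¹ * (b * a ^ n * b) ∈ 𝐂(S) := by
  sorry

theorem ST.form (h : ST S n a b) {x : G} (hx : x ∈ S) :
    ∃ j : ℕ, ∃ d ∈ D0 S a b, x = a ^ j * d ∨ x = a ^ j * b * d := by
  sorry

/-- An element centralizing `a`, `b` and `D0` is central. -/
theorem ST.cent_of (h : ST S n a b) {x : G} (h1 : x ∈ 𝐂[a]) (h2 : x ∈ 𝐂[b])
    (h3 : x ∈ 𝐂(D0 S a b)) : x ∈ 𝐂(S) := by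
  sorry

theorem ST.pow_mem_iff (h : ST S n a b) (j : ℕ) : a ^ j ∈ 𝐂[b] ↔ 2 * n ∣ j := by
  sorry

theorem ST.inv_mem (h : ST S n a b) {x : G} (hx : x ∈ S) (h1 : x ∈ 𝐂[a]) (h2 : x * x = 1) :
    x ∈ D0 S a b := by
  sorry

theorem ST.cent_out (h : ST S n a b) {x y : G} (hx : x ∈ S) (h1 : x ∉ 𝐂[a]) (hy : y ∈ S)
    (h2 : y ∈ 𝐂[a]) (h3 : y ∈ 𝐂[x]) : y ∈ D0 S a b := by
  sorry

theorem ST.br_cases (h : ST S n a b) {x : G} (hx : Br S x) : x ∈ D0 S a b ∨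
    ∃ j : ℕ, ∃ e ∈ S, e ∈ 𝐂(S) ∧ (x = a ^ j * e ∨ (n = 1 ∧ x = a ^ j * b * e)) := by
  sorry

theorem Ctx.z_pow (h : Ctx G n) (hS : Sy S) {e : G} (he : e ∈ S) (hc : e ∈ 𝐂(S)) :
    e ^ (2 * n) = 1 := by
  sorry

theorem Ctx.f1 (h : Ctx G n) (hS : Sy S) {x : G} (hx : x ∈ S) (hc : x ^ (2 * n) ∈ 𝐂(S)) :
    ∃ a, Br S a ∧ a ^ (2 * n) = x ^ (2 * n) := by
  sorry

theorem Ctx.c0_eq (h : Ctx G n) (hs : ST S n a b) (hn : n ≠ 1) :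
    (a ^ n)⁻¹ * (b * a ^ n * b) = a ^ (2 * n) := by
  sorry

theorem Ctx.f2 (h : Ctx G n) (hs : ST S n a b) {d : G} (hd : d ∈ D0 S a b)
    (hc : d ^ (2 * n) ∈ 𝐂(S)) : d ^ (2 * n) = 1 := by
  sorry

theorem Ctx.rt_cases (h : Ctx G n) (hs : ST S n a b) {x : G} (hx : Br S x)
    (h1 : x ^ (2 * n) ≠ 1) : x ∉ D0 S a b ∧
      (x ^ (2 * n) = a ^ (2 * n) ∨ (n = 1 ∧ x ^ (2 * n) = b * a * b * a)) := by
  sorry

theorem Ctx.noBad (h : Ctx G n) (hs : ST S n a b) {β x g : G} (hβ : β ∈ D0 S a b) (hx : Br S x)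
    (e : g * β * g⁻¹ = x ^ (2 * n)) : β ∈ 𝐂(S) := by
  sorry

theorem Ctx.expD (h : Ctx G n) (hs : ST S n a b) {d : G} (hd : d ∈ D0 S a b) :
    d ^ (2 * n) = 1 := by
  sorry

theorem Ctx.w1 (h : Ctx G n) (hs : ST S n a b) (hn : n ≠ 1) {x g : G} (hx : x ∈ S)
    (h1 : x ∈ 𝐂[a]) (e : g * x * g⁻¹ = a ^ (2 * n)) : x = a ^ (2 * n) := by
  sorry

end CfsgLib.SQ
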