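import Cfsg.Agent.Lib.SQ.P1

set_option autoImplicit false

namespace CfsgLib.SQ

open Subgroup Cfsg CfsgLib.FT.BGN CfsgLib.GW
open CfsgLib.FT.U4 (mem_cent1 mem_cent1' mem_cent mem_cent1_comm self_mem_cent1 cent1_conj
  orderOf_conj cent_le_cent1)

universe u

variable {G : Type*} [Group G] [Finite G] {S : Subgroup G} {n : ℕ} {a b : G}

theorem Ctx.elem (h : Ctx G n) (hs : ST S n a b) {d : G} (hd : d ∈ D0 S a b) : d * d = 1 := by
  sorry

end CfsgLib.SQ
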