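import Cfsg.Agent.Lib.SQ.Defs
import Cfsg.Prelude.Def_SolvableStructure
import Cfsg.Prelude.Def_Solvable

set_option autoImplicit false

namespace CfsgLib.SQ

open Subgroup Cfsg CfsgLib.FT.BGN CfsgLib.GW
open CfsgLib.FT.U4 (mem_cent1 mem_cent1' mem_cent mem_cent1_comm self_mem_cent1 cent1_conj
  orderOf_conj cent_le_cent1)

universe u

theorem solv_part {G : Type*} [Group G] [Finite G] (hs : Group.IsSolvable G)
    (h : ∀ x : G, (∃ (r : ℕ) (k : ℕ), r.Prime ∧ orderOf x = r ^ k) → Squarefree (Subgroup.centralizer ({x} : Set G)).index) :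
    Cfsg.IsSupersolvable G ∧ derivedSeries G 3 = ⊥ ∧
    (∀ _h : (Cfsg.fittingSubgroup G).Normal, IsMulCommutative (G ⧸ Cfsg.fittingSubgroup G) ∧ Squarefree (Monoid.exponent (G ⧸ Cfsg.fittingSubgroup G))) ∧
    Squarefree (Nat.card (commutator ↥(Cfsg.fittingSubgroup G))) := by
  sorry

end CfsgLib.SQ
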